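/-
The monomial automorphisms of the hexacode.
-/
import Cfsg.Agent.S1610

set_option autoImplicit false
set_option maxRecDepth 100000

namespace CfsgHexMono

open Cfsg Cfsg.Agent.S1610

/-- Coordinates of the three generating words. -/
def gens : List (Fin 4 × Fin 4 × Fin 4) := [(1, 0, 0), (0, 1, 0), (0, 0, 1)]

/-- A monomial map on labels maps the generators to words. -/
def Pres (inv : Fin 6 → Fin 6) (c : Fin 6 → Fin 4) : Prop :=
  ∀ g ∈ gens, ∃ p, word p = fun i => mulK (c i) (word g (inv i))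

instance (inv : Fin 6 → Fin 6) (c : Fin 6 → Fin 4) : Decidable (Pres inv c) := by unfold Pres; infer_instance

/-- Certificates. -/
def certs : List (ℕ × ℕ × (Fin 6 → Fin 6) × (Fin 6 → Fin 6) × (Fin 6 → Fin 4)) := [
  (0, 0, ![0, 1, 2, 3, 4, 5], ![0, 1, 2, 3, 4, 5], ![1, 1, 1, 1, 1, 1]),
  (0, 1, ![1, 0, 2, 3, 5, 4], ![1, 0, 2, 3, 5, 4], ![1, 1, 1, 1, 1, 1]),
  (0, 2, ![2, 0, 1, 3, 4, 5], ![1, 2, 0, 3, 4, 5], ![1, 1, 1, 1, 2, 3]),
  (0, 3, ![3, 0, 1, 2, 5, 4], ![1, 2, 3, 0, 5, 4], ![1, 1, 1, 1, 3, 2]),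
  (0, 4, ![4, 0, 1, 2, 3, 5], ![1, 2, 3, 4, 0, 5], ![1, 2, 3, 1, 3, 2]),
  (0, 5, ![5, 0, 1, 2, 4, 3], ![1, 2, 3, 5, 4, 0], ![1, 3, 2, 1, 3, 2]),
  (1, 1, ![0, 1, 2, 3, 4, 5], ![0, 1, 2, 3, 4, 5], ![1, 1, 1, 1, 1, 1]),
  (1, 2, ![0, 2, 1, 3, 5, 4], ![0, 2, 1, 3, 5, 4], ![1, 1, 1, 1, 2, 3]),
  (1, 3, ![0, 3, 1, 2, 4, 5], ![0, 2, 3, 1, 4, 5], ![1, 1, 1, 1, 3, 2]),
  (1, 4, ![0, 4, 1, 2, 5, 3], ![0, 2, 3, 5, 1, 4], ![1, 2, 3, 1, 3, 2]),
  (1, 5, ![0, 5, 1, 2, 3, 4], ![0, 2, 3, 4, 5, 1], ![1, 3, 2, 1, 3, 2]),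
  (2, 2, ![0, 1, 2, 3, 4, 5], ![0, 1, 2, 3, 4, 5], ![1, 1, 1, 1, 1, 1]),
  (2, 3, ![0, 1, 3, 2, 5, 4], ![0, 1, 3, 2, 5, 4], ![1, 1, 1, 1, 1, 1]),
  (2, 4, ![0, 1, 4, 2, 3, 5], ![0, 1, 3, 4, 2, 5], ![1, 2, 3, 3, 3, 3]),
  (2, 5, ![0, 1, 5, 2, 4, 3], ![0, 1, 3, 5, 4, 2], ![1, 3, 2, 2, 2, 2]),
  (3, 3, ![0, 1, 2, 3, 4, 5], ![0, 1, 2, 3, 4, 5], ![1, 1, 1, 1, 1, 1]),
  (3, 4, ![0, 1, 2, 4, 5, 3], ![0, 1, 2, 5, 3, 4], ![1, 2, 3, 3, 3, 3]),
  (3, 5, ![0, 1, 2, 5, 3, 4], ![0, 1, 2, 4, 5, 3], ![1, 3, 2, 2, 2, 2])]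

theorem certs_ok : ∀ C ∈ certs, (∀ i, C.2.2.2.1 (C.2.2.1 i) = i ∧ C.2.2.1 (C.2.2.2.1 i) = i) ∧
    (∀ i, C.2.2.2.2 i ≠ 0) ∧ Pres C.2.2.2.1 C.2.2.2.2 := by decide +kernel

set_option synthInstance.maxSize 2000 in
theorem certs_levels : ∀ k : Fin 6, (k : ℕ) < 4 → ∀ j : Fin 6, k ≤ j → ∃ C ∈ certs, C.2.2.1 k = j ∧
    ∀ i : Fin 6, i < k → C.2.2.1 i = i := by decide +kernel

theorem certs_even : ∀ C ∈ certs, ∀ σ : Equiv.Perm (Fin 6), (∀ i, σ i = C.2.2.1 i) →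
    Equiv.Perm.sign σ = 1 := by decide +kernel

theorem fix_four : ∀ σ : Equiv.Perm (Fin 6), (∀ i : Fin 6, (i : ℕ) < 4 → σ i = i) → Equiv.Perm.sign σ = 1 → σ = 1 := by
  decide +kernel

theorem diag_pres : ∀ c : Fin 6 → Fin 4, (∀ i, c i ≠ 0) → Pres id c → ∀ i, c i = c 0 := by decide +kernel

theorem swap_no : ∀ c : Fin 6 → Fin 4, (∀ i, c i ≠ 0) → ¬ Pres (Equiv.swap (4 : Fin 6) 5) c := by decide +kernel

variable {F : Type*} [Field F] [Fintype F] [DecidableEq F]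

theorem model (hF : Fintype.card F = 4) {ω : F} (hω : ω ^ 2 + ω + 1 = 0) :
    ∃ ι : Fin 4 → F, Function.Bijective ι ∧ ι 0 = 0 ∧ (∀ a b, ι (mulK a b) = ι a * ι b) ∧
      (Cfsg.hexacode F ω : Set (Fin 6 → F)) = Set.range (fun p i => ι (word p i)) ∧
      Cfsg.hexacode F ω = Submodule.span F (Set.range fun k : Fin 3 => fun i => ι (word (![(1, 0, 0), (0, 1, 0), (0, 0, 1)] k) i)) := by
  classical
  have h4 : (4 : F) = 0 := by
    have := FiniteField.cast_card_eq_zero F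
    rw [hF] at this
    exact_mod_cast this
  have h2 : (2 : F) = 0 := by
    have : (2 : F) * 2 = 0 := by rw [← h4]; norm_num
    exact mul_self_eq_zero.mp this
  let ι : Fin 4 → F := ![0, 1, ω, ω ^ 2]
  have hω0 : ω ≠ 0 := fun e => by rw [e] at hω; simp at hω
  have hω1 : ω ≠ 1 := fun e => by
    rw [e] at hω
    exact one_ne_zero (α := F) (by linear_combination hω - h2)
  have hsq : ω ^ 2 = ω + 1 := by linear_combination hω - (ω + 1) * h2
  have hsq0 : ω ^ 2 ≠ 0 := pow_ne_zero 2 hω0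
  have hsq1 : ω ^ 2 ≠ 1 := fun e => hω0 (by linear_combination e - hsq)
  have hsqω : ω ^ 2 ≠ ω := fun e => one_ne_zero (α := F) (by linear_combination e - hsq)
  have hinj : Function.Injective ι := by
    intro a b h
    fin_cases a <;> fin_cases b <;>
      simp [ι, hω0, Ne.symm hω0, hω1, Ne.symm hω1, hsq0, hsq0.symm, hsq1, hsq1.symm, hsqω, hsqω.symm] at h ⊢
  have hadd : ∀ a b, ι (addK a b) = ι a + ι b := by
    intro a b
    fin_cases a <;> fin_cases b <;> simp [ι, addK, hsq] <;>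
      first
        | linear_combination (0 : F) * h2
        | linear_combination h2
        | linear_combination -h2
        | linear_combination ω * h2
        | linear_combination -ω * h2
        | linear_combination (ω + 1) * h2
        | linear_combination -(ω + 1) * h2
        | linear_combination (2 : F) * h2
  have hω3 : ω ^ 3 = 1 := by linear_combination (ω - 1) * hω
  have hmul : ∀ a b, ι (mulK a b) = ι a * ι b := by
    intro a b
    fin_cases a <;> fin_cases b <;> simp [ι, mulK] <;>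
      first
        | linear_combination -hω3
        | linear_combination hω3
        | linear_combination -ω * hω3
        | ring
  let W : Fin 4 × Fin 4 × Fin 4 → (Fin 6 → F) := fun p i => ι (word p i)
  have hWinj : Function.Injective W := fun p q h => word_inj p q (funext fun i => hinj (congrFun h i))
  have hW : ∀ p, W p = ι p.1 • ![ω, ω ^ 2, ω ^ 2, ω, ω ^ 2, ω] + (ι p.2.1 • ![ω ^ 2, ω, ω, ω ^ 2, ω ^ 2, ω] +
      ι p.2.2 • ![ω ^ 2, ω, ω ^ 2, ω, ω, ω ^ 2]) := by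
    intro p
    funext i
    simp only [W, word, hadd, hmul, Pi.add_apply, Pi.smul_apply, smul_eq_mul]
    fin_cases i <;> simp [ι]
  have hsurj : Function.Surjective ι := ((Fintype.bijective_iff_injective_and_card ι).mpr ⟨hinj, by rw [hF]; rfl⟩).2
  have hcode : (Cfsg.hexacode F ω : Set (Fin 6 → F)) = Set.range W := by
    ext x
    rw [SetLike.mem_coe, Cfsg.hexacode, Submodule.mem_span_insert, Set.mem_range]
    constructor
    · rintro ⟨a, y, hy, rfl⟩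
      rw [Submodule.mem_span_pair] at hy
      obtain ⟨b, c, rfl⟩ := hy
      obtain ⟨a, rfl⟩ := hsurj a
      obtain ⟨b, rfl⟩ := hsurj b
      obtain ⟨c, rfl⟩ := hsurj c
      exact ⟨(a, b, c), hW _⟩
    · rintro ⟨⟨a, b, c⟩, rfl⟩
      exact ⟨ι a, _, Submodule.mem_span_pair.mpr ⟨ι b, ι c, rfl⟩, hW _⟩
  refine ⟨ι, ⟨hinj, hsurj⟩, rfl, hmul, hcode, le_antisymm (fun x hx => ?_) (Submodule.span_le.mpr ?_)⟩
  · obtain ⟨p, rfl⟩ := hcode.le hx
    have e : W p = ι p.1 • W (1, 0, 0) + (ι p.2.1 • W (0, 1, 0) + ι p.2.2 • W (0, 0, 1)) := by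
      rw [hW p, hW, hW, hW]
      simp [ι]
    show W p ∈ _
    rw [e]
    refine add_mem ?_ (add_mem ?_ ?_) <;> refine Submodule.smul_mem _ _ (Submodule.subset_span ?_)
    · exact ⟨0, rfl⟩
    · exact ⟨1, rfl⟩
    · exact ⟨2, rfl⟩
  · rintro _ ⟨k, rfl⟩
    exact hcode.ge ⟨_, rfl⟩

theorem hexacode_monomial (hF : Fintype.card F = 4) {ω : F} (hω : ω ^ 2 + ω + 1 = 0) :
    Nat.card {f : Equiv.Perm (Fin 6) × (Fin 6 → Fˣ) //
      (∀ x ∈ Cfsg.hexacode F ω, Cfsg.monomialMap f.1 f.2 x ∈ Cfsg.hexacode F ω)} = 1080 ∧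
    (∀ c : Fin 6 → Fˣ, (∀ x ∈ Cfsg.hexacode F ω, Cfsg.monomialMap 1 c x ∈ Cfsg.hexacode F ω) → ∀ i j, c i = c j) ∧
    {σ : Equiv.Perm (Fin 6) | ∃ c : Fin 6 → Fˣ,
      (∀ x ∈ Cfsg.hexacode F ω, Cfsg.monomialMap σ c x ∈ Cfsg.hexacode F ω)} =
      (alternatingGroup (Fin 6) : Set (Equiv.Perm (Fin 6))) := by
  classical
  obtain ⟨ι, hbij, h0, hmul, hcode, hspan⟩ := model hF hω
  let P (σ : Equiv.Perm (Fin 6)) (c : Fin 6 → Fˣ) : Prop :=
    ∀ x ∈ Cfsg.hexacode F ω, Cfsg.monomialMap σ c x ∈ Cfsg.hexacode F ω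
  let lab : Fˣ → Fin 4 := fun u => (hbij.2 (u : F)).choose
  have hlab : ∀ u : Fˣ, ι (lab u) = u := fun u => (hbij.2 (u : F)).choose_spec
  have hlab0 : ∀ u : Fˣ, lab u ≠ 0 := fun u e => u.ne_zero (by rw [← hlab u, e, h0])
  have hiff : ∀ σ c, P σ c ↔ Pres σ.symm (fun i => lab (c i)) := by
    intro σ c
    constructor
    · intro h g _
      obtain ⟨q, hq⟩ := hcode.le (h _ (hcode.ge ⟨g, rfl⟩))
      refine ⟨q, funext fun i => hbij.1 ?_⟩
      rw [hmul, hlab]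
      exact congrFun hq i
    · intro h x hx
      rw [hspan] at hx
      induction hx using Submodule.span_induction with
      | mem x hx =>
        obtain ⟨k, rfl⟩ := hx
        obtain ⟨q, hq⟩ := h (![(1, 0, 0), (0, 1, 0), (0, 0, 1)] k) (by fin_cases k <;> decide)
        refine hcode.ge ⟨q, funext fun i => ?_⟩
        show ι (word q i) = (c i : F) * ι (word _ (σ.symm i))
        rw [congrFun hq i, hmul, hlab]
      | zero =>
        convert Submodule.zero_mem (Cfsg.hexacode F ω) using 1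
        funext i; simp [Cfsg.monomialMap]
      | add x y _ _ hx hy =>
        convert add_mem hx hy using 1
        funext i; simp [Cfsg.monomialMap, mul_add]
      | smul a x _ hx =>
        convert Submodule.smul_mem _ a hx using 1
        funext i; simp [Cfsg.monomialMap, mul_left_comm]
  have hmulP : ∀ σ τ c d, P σ c → P τ d → P (σ * τ) fun i => c i * d (σ.symm i) := by
    intro σ τ c d hc hd x hx
    convert hc _ (hd x hx) using 1
    funext i
    simp only [Cfsg.monomialMap, Units.val_mul, mul_assoc]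
    rfl
  have hdiag : ∀ c, P 1 c → ∀ i j, c i = c j := by
    intro c hc
    have h := diag_pres _ (fun i => hlab0 (c i)) ((hiff 1 c).mp hc)
    have : ∀ i, c i = c 0 := fun i => Units.ext (by rw [← hlab (c i), ← hlab (c 0), h i])
    exact fun i j => (this i).trans (this j).symm
  have hcert : ∀ C ∈ certs, ∃ g : Equiv.Perm (Fin 6), (∀ i, g i = C.2.2.1 i) ∧ (∃ c, P g c) ∧
      Equiv.Perm.sign g = 1 := by
    intro C hC
    obtain ⟨h1, h2, h3⟩ := certs_ok C hC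
    refine ⟨⟨C.2.2.1, C.2.2.2.1, fun i => (h1 i).1, fun i => (h1 i).2⟩, fun i => rfl, ?_,
      certs_even C hC _ fun i => rfl⟩
    have hne : ∀ i, ι (C.2.2.2.2 i) ≠ 0 := fun i e => h2 i (hbij.1 (e.trans h0.symm))
    refine ⟨fun i => Units.mk0 _ (hne i), (hiff _ _).mpr ?_⟩
    have : (fun i => lab (Units.mk0 _ (hne i))) = C.2.2.2.2 := funext fun i => hbij.1 (by rw [hlab]; rfl)
    rw [this]
    exact h3
  have hA : ∀ σ : Equiv.Perm (Fin 6), Equiv.Perm.sign σ = 1 → ∃ c, P σ c := by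
    intro σ hσ
    have step : ∀ k, k ≤ 4 → ∃ h : Equiv.Perm (Fin 6), (∃ c, P h c) ∧ Equiv.Perm.sign h = 1 ∧
        ∀ i : Fin 6, (i : ℕ) < k → h i = σ i := by
      intro k
      induction k with
      | zero =>
        refine fun _ => ⟨1, ⟨1, fun x hx => ?_⟩, map_one _, fun i hi => absurd hi (by omega)⟩
        convert hx using 1
        funext i; simp [Cfsg.monomialMap, show Equiv.symm (1 : Equiv.Perm (Fin 6)) = 1 from rfl]
      | succ k ih =>
        intro hk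
        obtain ⟨h, ⟨c, hc⟩, hs, hh⟩ := ih (by omega)
        let kk : Fin 6 := ⟨k, by omega⟩
        let j := h.symm (σ kk)
        have hkj : kk ≤ j := by
          by_contra hlt
          push Not at hlt
          have h1 : h j = σ j := hh j hlt
          rw [show h j = σ kk from h.apply_symm_apply _] at h1
          exact absurd (σ.injective h1) (Fin.ne_of_gt hlt)
        obtain ⟨C, hC, hC1, hC2⟩ := certs_levels kk (by show k < 4; omega) j hkj
        obtain ⟨g, hg, ⟨d, hd⟩, hgs⟩ := hcert C hC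
        refine ⟨h * g, ⟨_, hmulP h g c d hc hd⟩, by rw [map_mul, hs, hgs, one_mul], fun i hi => ?_⟩
        rw [Equiv.Perm.mul_apply, hg]
        rcases Nat.lt_succ_iff_lt_or_eq.mp hi with hi | hi
        · rw [hC2 i (by show (i : ℕ) < k; exact hi)]; exact hh i hi
        · rw [show i = kk from Fin.ext hi, hC1]; exact h.apply_symm_apply _
    obtain ⟨h, hc, hs, hh⟩ := step 4 le_rfl
    have h1 := fix_four (h⁻¹ * σ) (fun i hi => by
      show h.symm (σ i) = i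
      exact (Equiv.symm_apply_eq h).mpr (hh i hi).symm) (by rw [map_mul, map_inv, hs, hσ, inv_one, one_mul])
    exact (inv_mul_eq_one.mp h1) ▸ hc
  have hset : ∀ σ : Equiv.Perm (Fin 6), (∃ c, P σ c) ↔ Equiv.Perm.sign σ = 1 := by
    refine fun σ => ⟨fun ⟨c, hc⟩ => ?_, hA σ⟩
    by_contra hne
    have hsw : Equiv.Perm.sign (σ⁻¹ * Equiv.swap 4 5) = 1 := by
      rw [map_mul, map_inv, (Int.units_eq_one_or _).resolve_left hne, Equiv.Perm.sign_swap (by decide)]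
      rfl
    obtain ⟨d, hd⟩ := hA _ hsw
    have h2 := hmulP _ _ _ _ hc hd
    rw [← mul_assoc, mul_inv_cancel, one_mul, hiff] at h2
    rw [Equiv.symm_swap] at h2
    exact swap_no _ (fun i => hlab0 _) h2
  refine ⟨?_, hdiag, Set.ext fun σ => (hset σ).trans Equiv.Perm.mem_alternatingGroup.symm⟩
  choose c hc using fun σ : ↥(alternatingGroup (Fin 6)) => (hset σ).mpr (Equiv.Perm.mem_alternatingGroup.mp σ.2)
  let f : ↥(alternatingGroup (Fin 6)) × Fˣ → {f : Equiv.Perm (Fin 6) × (Fin 6 → Fˣ) // P f.1 f.2} := fun q =>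
    ⟨((q.1 : Equiv.Perm (Fin 6)), fun i => q.2 * c q.1 i), fun x hx => by
      convert Submodule.smul_mem _ (q.2 : F) (hc q.1 x hx) using 1
      funext i; simp [Cfsg.monomialMap, mul_assoc]⟩
  have hf : Function.Bijective f := by
    constructor
    · rintro ⟨σ, u⟩ ⟨τ, v⟩ he
      have h1 : σ = τ := Subtype.ext (congrArg (fun z => z.1.1) he)
      subst h1
      exact Prod.ext rfl (mul_right_cancel (congrFun (congrArg (fun z => z.1.2) he) 0))
    · rintro ⟨⟨σ, d⟩, hd⟩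
      let σ' : ↥(alternatingGroup (Fin 6)) := ⟨σ, Equiv.Perm.mem_alternatingGroup.mpr ((hset σ).mp ⟨d, hd⟩)⟩
      have hinv : σ⁻¹ * σ = 1 := inv_mul_cancel σ
      obtain ⟨e, he⟩ := (hset σ⁻¹).mpr (by rw [map_inv, (hset σ).mp ⟨d, hd⟩, inv_one])
      have k1 := hdiag _ (hinv ▸ hmulP σ⁻¹ σ e d he hd)
      have k2 := hdiag _ (hinv ▸ hmulP σ⁻¹ σ e (c σ') he (hc σ'))
      refine ⟨(σ', d 0 * (c σ' 0)⁻¹), Subtype.ext (Prod.ext rfl (funext fun i => ?_))⟩
      show d 0 * (c σ' 0)⁻¹ * c σ' i = d i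
      have e1 : e (σ⁻¹ i) * d i = e (σ⁻¹ 0) * d 0 := by
        have h := k1 (σ⁻¹ i) (σ⁻¹ 0)
        simpa only [(σ⁻¹).symm_apply_apply] using h
      have e2 : e (σ⁻¹ i) * c σ' i = e (σ⁻¹ 0) * c σ' 0 := by
        have h := k2 (σ⁻¹ i) (σ⁻¹ 0)
        simpa only [(σ⁻¹).symm_apply_apply] using h
      have e3 : e (σ⁻¹ i) * (d 0 * (c σ' 0)⁻¹ * c σ' i) = e (σ⁻¹ i) * d i := by
        rw [e1, mul_left_comm, e2, mul_left_comm _ (e (σ⁻¹ 0)), inv_mul_cancel_right]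
      exact mul_left_cancel e3
  rw [show Nat.card {f : Equiv.Perm (Fin 6) × (Fin 6 → Fˣ) //
      (∀ x ∈ Cfsg.hexacode F ω, Cfsg.monomialMap f.1 f.2 x ∈ Cfsg.hexacode F ω)} = _ from
    (Nat.card_eq_of_bijective f hf).symm, Nat.card_prod, nat_card_alternatingGroup, Nat.card_units,
    Nat.card_eq_fintype_card (α := F), Nat.card_eq_fintype_card, Fintype.card_fin, hF]
  decide

end CfsgHexMono
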